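import Mathlib
import Cfsg.Agent.LieClassical.OrthFinite
import Cfsg.Agent.ClassicalGeometry.OrthSemi

/-!
# A totally singular plane opposite to its image under a properly semilinear semisimilitude (helper660), S4327

`exists_opp_semi` : `M` a `σ`-semilinear semisimilitude, `σ ≠ 1`, `dim V ≥ 7`, `F` finite: there are `z, w` spanning
a totally singular plane with `b(z,Mz) b(w,Mw) - b(z,Mw) b(w,Mz) ≠ 0`.
-/

set_option autoImplicit false

namespace Cfsg.Agent.H660.Gs.Semi

open QuadraticMap Cfsg.Agent.LieClassical.OrthCore Cfsg.Agent.LieClassical.OrthTrans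
  Cfsg.Agent.LieClassical.OrthFinite Cfsg.Agent.ClassicalGeometry.OrthSemi

variable {F V : Type*} [Field F] [AddCommGroup V] [Module F V] {Q : QuadraticForm F V}

section aux

variable {σ : F ≃+* F} {c : F} {M : Equiv.Perm V}

/-- a `σ`-sesquilinear form vanishing on the line of two vectors -/
theorem swap_zero (h : IsSS Q σ c M) (hσ : ∃ t, σ t ≠ t) {w₁ w₂ : V}
    (h0 : ∀ t : F, polar Q (w₁ + t • w₂) (M (w₁ + t • w₂)) = 0) (h1 : polar Q w₁ (M w₁) = 0)
    (h2 : polar Q w₂ (M w₂) = 0) : polar Q w₁ (M w₂) = 0 := by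
  have key : ∀ t : F, σ t * polar Q w₁ (M w₂) + t * polar Q w₂ (M w₁) = 0 := by
    intro t
    have := h0 t
    rw [h.add, h.smul, polar_add_left, polar_add_right, polar_add_right, polar_smul_left, polar_smul_left,
      polar_smul_right, polar_smul_right, h1, h2] at this
    simp only [smul_eq_mul] at this
    linear_combination this
  obtain ⟨t, ht⟩ := hσ
  have e1 := key 1
  rw [map_one] at e1
  have e2 := key t
  have e3 : (σ t - t) * polar Q w₁ (M w₂) = 0 := by linear_combination e2 - t * e1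
  exact (mul_eq_zero.1 e3).resolve_left (sub_ne_zero.2 ht)

/-- if `b(w, M w) = 0` for the singular `w` of `S` then `M a` is orthogonal to `S` -/
theorem perp_of_all (h : IsSS Q σ c M) (hσ : ∃ t, σ t ≠ t) {S : Submodule F V}
    (hS : ∀ w ∈ S, Q w = 0 → polar Q w (M w) = 0) {a a' b b' : V} (ha : a ∈ S) (ha' : a' ∈ S) (hb : b ∈ S)
    (hb' : b' ∈ S) (h1 : Hyp Q a a') (h2 : Hyp Q b b') (e1 : polar Q a b = 0) (e2 : polar Q a b' = 0)
    (e3 : polar Q a' b = 0) (e4 : polar Q a' b' = 0) {v : V} (hv : v ∈ S) : polar Q v (M a) = 0 := by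
  -- orthogonal singular vectors
  have key : ∀ w₁ ∈ S, ∀ w₂ ∈ S, Q w₁ = 0 → Q w₂ = 0 → polar Q w₁ w₂ = 0 → polar Q w₁ (M w₂) = 0 := by
    intro w₁ hw₁ w₂ hw₂ q₁ q₂ q₃
    refine swap_zero h hσ (fun t => hS _ (add_mem hw₁ (S.smul_mem t hw₂)) ?_) (hS _ hw₁ q₁) (hS _ hw₂ q₂)
    rw [Q_add, QuadraticMap.map_smul, q₁, q₂, polar_smul_right, q₃]
    simp
  -- `b(a', M a) = 0`
  have hk : ∀ t : F, t ≠ 0 → polar Q a' (M a) = t⁻¹ * σ t * polar Q b' (M b) := by
    intro t ht
    have q := key (a' - t⁻¹ • b') (sub_mem ha' (S.smul_mem _ hb')) (a + t • b) (add_mem ha (S.smul_mem t hb))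
      (by rw [sub_eq_add_neg, ← neg_smul, Q_add, QuadraticMap.map_smul, h1.right, h2.right, polar_smul_right, e4]; simp)
      (by rw [Q_add, QuadraticMap.map_smul, h1.left, h2.left, polar_smul_right, e1]; simp)
      (by
        rw [polar_sub_left, polar_add_right, polar_add_right, polar_smul_left, polar_smul_left, polar_smul_right,
          polar_smul_right, h1.pair', h2.pair', e3, polar_comm Q b' a, e2]
        simp [ht])
    rw [h.add, h.smul, polar_sub_left, polar_add_right, polar_add_right, polar_smul_left, polar_smul_left,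
      polar_smul_right, polar_smul_right, key a' ha' b hb h1.right h2.left e3,
      key b' hb' a ha h2.right h1.left (by rw [polar_comm, e2])] at q
    simp only [smul_eq_mul] at q
    linear_combination q
  have ha0 : polar Q a' (M a) = 0 := by
    obtain ⟨t, ht⟩ := hσ
    have ht0 : t ≠ 0 := by
      rintro rfl
      exact ht (map_zero σ)
    have q1 := hk 1 one_ne_zero
    rw [map_one, inv_one, one_mul, one_mul] at q1
    have q2 := hk t ht0
    have q3 : (σ t - t) * polar Q a' (M a) = 0 := by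
      rw [← q1] at q2
      have : t * polar Q a' (M a) = σ t * polar Q a' (M a) := by
        calc t * polar Q a' (M a) = t * (t⁻¹ * σ t * polar Q a' (M a)) := by rw [← q2]
          _ = _ := by field_simp
      linear_combination -this
    exact (mul_eq_zero.1 q3).resolve_left (sub_ne_zero.2 ht)
  -- decompose `v`
  set v₁ := proj Q a a' v with hv₁
  have hv₁S : v₁ ∈ S := by
    rw [hv₁, LieClassical.OrthTrans.proj]
    exact sub_mem (sub_mem hv (S.smul_mem _ ha)) (S.smul_mem _ ha')
  have hl : polar Q a v₁ = 0 := polar_proj_left h1 v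
  have hr : polar Q a' v₁ = 0 := polar_proj_right h1 v
  have hv1 : polar Q v₁ (M a) = 0 := by
    -- `v₁` is a sum of singular vectors orthogonal to `a`
    have sing : ∀ u ∈ S, polar Q a u = 0 → polar Q b u ≠ 0 → polar Q u (M a) = 0 := by
      intro u hu hau hbu
      have q1 := key (u - (Q u / polar Q b u) • b) (sub_mem hu (S.smul_mem _ hb)) a ha
        (by
          rw [sub_eq_add_neg, ← neg_smul, Q_add, QuadraticMap.map_smul, h2.left, polar_smul_right, polar_comm Q u b]
          simp only [smul_eq_mul]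
          field_simp
          ring) h1.left
        (by rw [polar_sub_left, polar_smul_left, polar_comm Q u a, hau, polar_comm Q b a, e1]; simp)
      rw [polar_sub_left, polar_smul_left, key b hb a ha h2.left h1.left (by rw [polar_comm, e1])] at q1
      simpa using q1
    by_cases hb1 : polar Q b v₁ = 0
    · have q1 := sing (v₁ - b') (sub_mem hv₁S hb') (by rw [polar_sub_right, hl, e2]; simp)
        (by rw [polar_sub_right, hb1, h2.pair]; simp)
      rw [polar_sub_left, key b' hb' a ha h2.right h1.left (by rw [polar_comm, e2])] at q1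
      simpa using q1
    · exact sing v₁ hv₁S hl hb1
  have e : v = v₁ + polar Q a' v • a + polar Q a v • a' := by
    rw [hv₁, LieClassical.OrthTrans.proj]
    module
  rw [e, polar_add_left, polar_add_left, polar_smul_left, polar_smul_left, hv1, hS a ha h1.left, ha0]
  simp

end aux

/-- **START for properly semilinear maps** -/
theorem exists_opp_semi [Finite F] (hQ : Nondeg Q) (h7 : 7 ≤ Module.finrank F V) {σ : F ≃+* F} {c : F}
    {M : Equiv.Perm V} (h : IsSS Q σ c M) (hσ : ∃ t, σ t ≠ t) :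
    ∃ z w : V, Q z = 0 ∧ Q w = 0 ∧ polar Q z w = 0 ∧
      polar Q z (M z) * polar Q w (M w) - polar Q z (M w) * polar Q w (M z) ≠ 0 := by
  -- first a singular `z` with `b(z, M z) ≠ 0`
  have hz : ∃ z : V, Q z = 0 ∧ polar Q z (M z) ≠ 0 := by
    by_contra hcon
    push Not at hcon
    obtain ⟨a, ha0, ha, -⟩ := exists_sing_perp (Q := Q) (n := 0) ![] (by omega)
    obtain ⟨a', h1⟩ := exists_hyp hQ ha ha0
    obtain ⟨b, hb0, hb, hb1⟩ := exists_sing_perp (Q := Q) ![a, a'] (by omega)
    have e1 : polar Q a b = 0 := hb1 0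
    have e3 : polar Q a' b = 0 := hb1 1
    obtain ⟨b', h2, e2, e4⟩ := exists_hyp_perp hQ h1 hb hb0 e1 e3
    have h3 : M a = 0 := by
      apply hQ
      intro y
      rw [polar_comm]
      exact perp_of_all (S := ⊤) h hσ (fun w _ hw => hcon w hw) trivial trivial trivial trivial h1 h2 e1 e2 e3 e4
        trivial
    exact ha0 (M.injective (h3.trans h.map_zero.symm))
  obtain ⟨z, hz, hzM⟩ := hz
  obtain ⟨z₁, hz₁⟩ : ∃ z₁, z₁ = (polar Q z (M z))⁻¹ • M z := ⟨_, rfl⟩
  have hH : Hyp Q z z₁ := by
    refine ⟨hz, ?_, ?_⟩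
    · rw [hz₁, QuadraticMap.map_smul, h.form, hz, map_zero, mul_zero, smul_zero]
    · rw [hz₁, polar_smul_right, smul_eq_mul, inv_mul_cancel₀ hzM]
  by_contra hcon
  push Not at hcon
  obtain ⟨a, ha0, ha, ha1⟩ := exists_sing_perp (Q := Q) ![z, z₁] (by omega)
  have f1 : polar Q z a = 0 := ha1 0
  have f2 : polar Q z₁ a = 0 := ha1 1
  obtain ⟨a', h1, f3, f4⟩ := exists_hyp_perp hQ hH ha ha0 f1 f2
  obtain ⟨b, hb0, hb, hb1⟩ := exists_sing_perp (Q := Q) ![z, z₁, a, a'] (by omega)
  have f5 : polar Q z b = 0 := hb1 0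
  have f6 : polar Q z₁ b = 0 := hb1 1
  have e1 : polar Q a b = 0 := hb1 2
  have e3 : polar Q a' b = 0 := hb1 3
  obtain ⟨v, hv⟩ := hQ.exists_polar_eq hb0 1
  -- the partner of `b`
  set v₁ := proj Q z z₁ (proj Q a a' v) with hv₁
  have g1 : polar Q b v₁ = 1 := by
    rw [hv₁, polar_proj_of_perp f5 f6, polar_proj_of_perp e1 e3, hv]
  have g2 : polar Q z v₁ = 0 := polar_proj_left hH _
  have g3 : polar Q z₁ v₁ = 0 := polar_proj_right hH _
  have g4 : polar Q a v₁ = 0 := by
    rw [hv₁, polar_proj_of_perp f1 f2, polar_proj_left h1]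
  have g5 : polar Q a' v₁ = 0 := by
    rw [hv₁, polar_proj_of_perp f3 f4, polar_proj_right h1]
  set b' := v₁ + (-Q v₁) • b with hb'
  have h2 : Hyp Q b b' := by
    refine ⟨hb, ?_, ?_⟩
    · rw [hb', Q_add, QuadraticMap.map_smul, hb, polar_smul_right, polar_comm Q v₁ b, g1]
      simp
    · rw [hb', polar_add_right, polar_smul_right, polar_self_of_sing hb, g1]
      simp
  have f7 : polar Q z b' = 0 := by rw [hb', polar_add_right, polar_smul_right, g2, f5]; simp
  have f8 : polar Q z₁ b' = 0 := by rw [hb', polar_add_right, polar_smul_right, g3, f6]; simp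
  have e2 : polar Q a b' = 0 := by rw [hb', polar_add_right, polar_smul_right, g4, e1]; simp
  have e4 : polar Q a' b' = 0 := by rw [hb', polar_add_right, polar_smul_right, g5, e3]; simp
  let S : Submodule F V := LinearMap.ker (polarBilin Q z) ⊓ LinearMap.ker (polarBilin Q z₁)
  have hS : ∀ v, v ∈ S ↔ polar Q z v = 0 ∧ polar Q z₁ v = 0 := by
    intro v
    simp [S, Submodule.mem_inf, LinearMap.mem_ker]
  have hzz : ∀ v, polar Q z₁ v = 0 → polar Q (M z) v = 0 := by
    intro v hv
    rw [hz₁, polar_smul_left, smul_eq_mul] at hv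
    exact (mul_eq_zero.1 hv).resolve_left (inv_ne_zero hzM)
  have hall : ∀ w ∈ S, Q w = 0 → polar Q w (M w) = 0 := by
    intro w hw hQw
    obtain ⟨hw1, hw2⟩ := (hS w).1 hw
    have h3 := hcon z w hz hQw hw1
    rw [polar_comm Q w (M z), hzz w hw2, mul_zero, sub_zero] at h3
    exact (mul_eq_zero.1 h3).resolve_left hzM
  have hperp : ∀ v, polar Q z v = 0 → polar Q z₁ v = 0 → polar Q v (M a) = 0 := fun v hv1 hv2 =>
    perp_of_all (S := S) h hσ hall ((hS _).2 ⟨f1, f2⟩) ((hS _).2 ⟨f3, f4⟩) ((hS _).2 ⟨f5, f6⟩)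
      ((hS _).2 ⟨f7, f8⟩) h1 h2 e1 e2 e3 e4 ((hS _).2 ⟨hv1, hv2⟩)
  -- `M a` is a multiple of `M z`
  have hza : polar Q z₁ (M a) = 0 := by
    rw [hz₁, polar_smul_left, h.polar, f1, map_zero, mul_zero, smul_zero]
  have hMa : M a = polar Q z (M a) • z₁ := by
    rw [← sub_eq_zero]
    apply hQ
    intro y
    have e : y = proj Q z z₁ y + polar Q z₁ y • z + polar Q z y • z₁ := by
      rw [LieClassical.OrthTrans.proj]
      module
    have k1 : polar Q (M a - polar Q z (M a) • z₁) (proj Q z z₁ y) = 0 := by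
      rw [polar_sub_left, polar_smul_left, polar_proj_right hH, polar_comm Q (M a) (proj Q z z₁ y),
        hperp _ (polar_proj_left hH y) (polar_proj_right hH y)]
      simp
    have k2 : polar Q (M a - polar Q z (M a) • z₁) z = 0 := by
      rw [polar_sub_left, polar_smul_left, hH.pair', polar_comm Q (M a) z]
      simp
    have k3 : polar Q (M a - polar Q z (M a) • z₁) z₁ = 0 := by
      rw [polar_sub_left, polar_smul_left, hH.polar_right, polar_comm Q (M a) z₁, hza]
      simp
    rw [e, polar_add_right, polar_add_right, polar_smul_right, polar_smul_right, k1, k2, k3]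
    simp
  have hMa2 : M a = M ((σ.symm (polar Q z (M a) * (polar Q z (M z))⁻¹)) • z) := by
    rw [h.smul, RingEquiv.apply_symm_apply, mul_smul, ← hz₁]
    exact hMa
  have ha2 := M.injective hMa2
  rw [ha2, polar_smul_right, hH.pair', smul_eq_mul, mul_one] at f2
  rw [f2, zero_smul] at ha2
  exact ha0 ha2

end Cfsg.Agent.H660.Gs.Semi
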