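import Cfsg.Agent.H660.Gs.TwF4
import Cfsg.Agent.H394.Wei.TF4
import Cfsg.Agent.H129.CycCardF

/-!
# S4327, row `²F₄(q)`, `q ≥ 8`: the element `z` and the row (helper660)

* `exists_ZZ` : the generator of a torus of order `q² ± √(2q³) + q ± √(2q) + 1` (overgroups: `H394.Wei.over_tf4`);
* `gen11_tf4` : **the row.**
-/

set_option autoImplicit false

namespace Cfsg.Agent.H660.Gs.TwF4

open Subgroup Cfsg Cfsg.Lie
open Cfsg.Agent.H147.Gen
open Cfsg.Agent.H394.Wei Cfsg.Agent.H56.Exc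

theorem exists_ZZ {K : Type} [Field K] [Fintype K] {m : ℕ} (hm : 1 ≤ m) (hK : Fintype.card K = 2 ^ (2 * m + 1)) :
    ∃ z : ↥(twistedF4 K (2 ^ m)), ZZ z := by
  obtain ⟨k, u, hk, hu, huk⟩ := exists_kx hm
  have h2m : 2 ≤ 2 ^ m := by
    calc 2 = 2 ^ 1 := rfl
      _ ≤ 2 ^ m := Nat.pow_le_pow_right (by norm_num) hm
  have hex : Cfsg.Agent.H129.CycT.CycExact ↥(twistedF4 K (2 ^ m)) k := by
    rcases hk with rfl | rfl
    · exact H129.CycCard.exact_tF4_plus hK (by rw [cast_mP]; push_cast; ring)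
    · exact H129.CycCard.exact_tF4_minus hK (by rw [cast_mM h2m]; push_cast; ring)
  obtain ⟨T, hcyc, hcard, hT⟩ := hex
  obtain ⟨z, hz⟩ := hcyc.exists_generator
  have hzo : orderOf (z : ↥(twistedF4 K (2 ^ m))) = k := by
    rw [Subgroup.orderOf_coe, orderOf_eq_card_of_forall_mem_zpowers hz, hcard]
  have h2k : ¬ 2 ∣ k := fun h => by
    have := hk.lt12 hm Nat.prime_two h
    omega
  have hz1 : (z : ↥(twistedF4 K (2 ^ m))) ≠ 1 := by
    intro h
    rw [h, orderOf_one] at hzo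
    rw [← hzo] at huk
    exact hu.prime.one_lt.ne' (Nat.dvd_one.1 huk)
  refine ⟨z, hz1, by rwa [hzo], ?_, ?_⟩
  · rw [hT z z.2 hz1, hcard]
    exact h2k
  · intro H hzH hH
    rcases over_tf4 hm (H290.KTF4.named Cfsg.Agent.OrdDiv.table hK hm) hk hu huk (z : ↥(twistedF4 K (2 ^ m))) hzo H hzH hH with
      h | ⟨_, _, _, _, _, _, _, h, _⟩
    · exact h
    · exact h.elim

/-- **The row `²F₄(q)`, `q ≥ 8`, of S4327.** -/
theorem gen11_tf4 {L : Type*} [Group L] (h : Lie.Iso2F4 L) : Gen11 L := by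
  obtain ⟨F, i1, i2, m, hm, hF, ⟨e⟩⟩ := h
  obtain ⟨z, hz⟩ := exists_ZZ hm hF
  exact (model_gen11 hm hF hz).congr e.symm

end Cfsg.Agent.H660.Gs.TwF4
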